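import Groth.Agent.JacTangent.FibreDeg
import Groth.Agent.CurveAlgEquiv.Main
import Groth.Agent.FibDim.BaseField
import Groth.Prelude.Def_AbDual
import Mathlib.FieldTheory.IsAlgClosed.AlgebraicClosure

/-! Fibres at field valued points: the dimension, and degree zero from algebraic triviality on geometric fibres. -/

set_option autoImplicit false
set_option linter.style.haveILetI false
set_option linter.unusedSectionVars false
set_option backward.isDefEq.respectTransparency false
set_option backward.isDefEq.respectTransparency.types false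

noncomputable section

universe u

open CategoryTheory CategoryTheory.Limits AlgebraicGeometry

namespace Groth.Agent.CurveFibDeg

open Groth.Agent

variable {X S : Scheme.{u}} (f : X ⟶ S)

/-- A field valued fibre has the dimension of the fibre at the point. -/
theorem topologicalKrullDim_fieldFibre [LocallyOfFiniteType f] {Ω : Type u} [Field Ω]
    (r : Spec (CommRingCat.of Ω) ⟶ S) :
    topologicalKrullDim ↥(pullback f r) = topologicalKrullDim ↥(f.fiber (r (IsLocalRing.closedPoint Ω))) := by
  let s := r (IsLocalRing.closedPoint Ω)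
  let ψ := Scheme.descResidueField (Scheme.stalkClosedPointTo r)
  have hr : Spec.map ψ ≫ S.fromSpecResidueField s = r :=
    Scheme.descResidueField_stalkClosedPointTo_fromSpecResidueField Ω S r
  let h : pullback f r ⟶ f.fiber s := pullback.lift (pullback.fst f r) (pullback.snd f r ≫ Spec.map ψ)
    (by rw [Category.assoc, hr, pullback.condition])
  have hpb : IsPullback h (pullback.snd f r) (f.fiberToSpecResidueField s) (Spec.map ψ) := by
    refine IsPullback.of_right ?_ (pullback.lift_snd _ _ _) (IsPullback.of_hasPullback f (S.fromSpecResidueField s))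
    rw [show h ≫ pullback.fst f (S.fromSpecResidueField s) = pullback.fst f r from pullback.lift_fst _ _ _, hr]
    exact IsPullback.of_hasPullback f r
  haveI : LocallyOfFiniteType (f.fiberToSpecResidueField s) :=
    inferInstanceAs (LocallyOfFiniteType (pullback.snd f (S.fromSpecResidueField s)))
  haveI : Subsingleton ↥(Spec (S.residueField s)) := inferInstanceAs (Subsingleton (PrimeSpectrum _))
  haveI : Subsingleton ↥(Spec (CommRingCat.of Ω)) := inferInstanceAs (Subsingleton (PrimeSpectrum Ω))
  exact FibDim.topologicalKrullDim_baseChange hpb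

/-- Algebraically trivial on the geometric fibre, hence of degree zero on the fibre. -/
theorem deg_eq_of_isAlgTrivialAt [IsProper f] [Flat f] (hdim : ∀ s : S, topologicalKrullDim ↥(f.fiber s) ≤ 1)
    (T : Over S) {L : (PicF.XT f T).Modules} (hL : PicF.IsInvertible L) (t : T.left)
    (h0 : AbDual.IsAlgTrivialAt (PicF.XTproj f T) L t) :
    FGA.eulerCharLE (T.left.residueField t) (FGA.fibreAt f T t).left (FGA.restrFibre f T t L) 1 =
      FGA.eulerCharLE (T.left.residueField t) (FGA.fibreAt f T t).left (Coh.structureModule _) 1 := by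
  let κ := T.left.residueField t
  let Ω := AlgebraicClosure κ
  let φ : κ →+* Ω := algebraMap κ Ω
  let σ : Spec (CommRingCat.of Ω) ⟶ T.left := Spec.map (CommRingCat.ofHom φ) ≫ T.left.fromSpecResidueField t
  have hσ : Set.range σ = {t} := by
    refine Set.Subset.antisymm ?_ ?_
    · rintro _ ⟨x, rfl⟩
      rw [← Scheme.range_fromSpecResidueField (X := T.left) t]
      exact ⟨_, rfl⟩
    · intro u hu
      rw [Set.mem_singleton_iff] at hu; rw [hu]
      refine ⟨IsLocalRing.closedPoint Ω, ?_⟩
      have : σ (IsLocalRing.closedPoint Ω) ∈ Set.range (T.left.fromSpecResidueField t) := ⟨_, rfl⟩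
      rwa [Scheme.range_fromSpecResidueField, Set.mem_singleton_iff] at this
  have halg := h0 Ω σ hσ
  rw [JacTangent.deg_iff_deg0 f T t hL]
  let r : Spec (CommRingCat.of κ) ⟶ S := T.left.fromSpecResidueField t ≫ T.hom
  let r' : Spec (CommRingCat.of Ω) ⟶ S := σ ≫ T.hom
  have hr : Spec.map (CommRingCat.ofHom φ) ≫ r = r' := (Category.assoc _ _ _).symm
  refine (JacTangent.deg0_extend f φ r r' hr (PicClLib.isInvertible_pullback _ hL)).1 ?_
  let e : pullback (PicF.XTproj f T) σ ≅ pullback f r' := pullbackLeftPullbackSndIso f T.hom σ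
  letI iZ : (pullback (PicF.XTproj f T) σ).Over (Spec (CommRingCat.of Ω)) := ⟨pullback.snd _ σ⟩
  haveI : IsProper (PicF.XTproj f T) := inferInstanceAs (IsProper (pullback.snd f T.hom))
  haveI : Flat (PicF.XTproj f T) := inferInstanceAs (Flat (pullback.snd f T.hom))
  haveI : IsProper (pullback (PicF.XTproj f T) σ ↘ Spec (CommRingCat.of Ω)) :=
    inferInstanceAs (IsProper (pullback.snd _ σ))
  haveI : Flat (pullback (PicF.XTproj f T) σ ↘ Spec (CommRingCat.of Ω)) :=
    inferInstanceAs (Flat (pullback.snd _ σ))
  have hd : topologicalKrullDim ↥(pullback (PicF.XTproj f T) σ) ≤ 1 := by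
    rw [(Scheme.homeoOfIso e).isHomeomorph.topologicalKrullDim_eq, topologicalKrullDim_fieldFibre]
    exact hdim _
  have key := CurveAlgEquiv.eulerCharLE_eq_of_algEquiv (k := Ω) hd halg
  haveI : CompactSpace (JacTangent.fib f r').left := (JacTangent.compact_fib f r').1
  haveI : QuasiSeparatedSpace (JacTangent.fib f r').left := (JacTangent.compact_fib f r').2
  have hpb : IsPullback e.hom (pullback.snd (PicF.XTproj f T) σ) (pullback.snd f r')
      (Spec.map (CommRingCat.ofHom (algebraMap Ω Ω))) := by
    rw [show Spec.map (CommRingCat.ofHom (algebraMap Ω Ω)) = 𝟙 (Spec (CommRingCat.of Ω)) from Spec.map_id _]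
    exact IsPullback.of_horiz_isIso ⟨(pullbackLeftPullbackSndIso_hom_snd f T.hom σ).trans (Category.comp_id _).symm⟩
  let M := (Scheme.Modules.pullback (PicF.XTmap f (JacTangent.fmap φ r r' hr))).obj
    ((Scheme.Modules.pullback (PicF.XTmap f (JacTangent.tpt T (T.left.fromSpecResidueField t)))).obj L)
  have hq : Coh.IsQCoh M :=
    ProjUPX.isQCoh_of_isInvertible (PicClLib.isInvertible_pullback _ (PicClLib.isInvertible_pullback _ hL))
  have h1 := JacTangent.eulerCharLE_baseChange (K := Ω) (K' := Ω) (Z := (JacTangent.fib f r').left)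
    (Z' := pullback (PicF.XTproj f T) σ) e.hom hpb M hq 1
  have h2 := JacTangent.eulerCharLE_unit (K := Ω) (K' := Ω) (Z := (JacTangent.fib f r').left)
    (Z' := pullback (PicF.XTproj f T) σ) e.hom hpb 1
  have he : e.hom ≫ PicF.XTmap f (JacTangent.fmap φ r r' hr) ≫
      PicF.XTmap f (JacTangent.tpt T (T.left.fromSpecResidueField t)) = pullback.fst (PicF.XTproj f T) σ := by
    rw [← PicClLib.XTmap_comp]
    refine pullback.hom_ext ?_ ?_
    · simp [e, r', PicF.XTmap, PicF.XTproj, pullbackLeftPullbackSndIso_hom_fst]
    · simp [e, σ, r', PicF.XTmap, PicF.XTproj, pullbackLeftPullbackSndIso_hom_snd_assoc, pullback.condition]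
  have h3 := JacTangent.eulerCharLE_iso (K := Ω) (Z := pullback (PicF.XTproj f T) σ)
    ((Scheme.Modules.pullback e.hom).mapIso ((Scheme.Modules.pullbackComp _ _).app L) ≪≫
      (Scheme.Modules.pullbackComp e.hom _).app L ≪≫ (Scheme.Modules.pullbackCongr he).app L) 1
  unfold JacTangent.Deg0
  rw [← h1, ← h2]
  exact h3.trans key

end Groth.Agent.CurveFibDeg
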